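import Groth.Agent.KEuler95.Tensor
import Groth.Agent.GrAlg95.Mult
import Groth.Agent.CycLib.SamuelAdd

/-! Koszul Euler characteristic versus multiplicities. -/

set_option autoImplicit false
set_option linter.style.haveILetI false

universe u

open CategoryTheory Polynomial Filter Topology
open Groth.Agent.HSLib (hs EvPoly MaxSupp)

namespace Groth.Agent.KEuler95

variable {A : Type u} [CommRing A] [IsNoetherianRing A]

theorem chi_tendsto (fs : List A) (M : ModuleCat.{u} A) [Module.Finite A M] (hmax : MaxSupp (Ideal.ofList fs) M) :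
    Tendsto (fun n : ℕ => (fs.length.factorial : ℝ) * (hs (Ideal.ofList fs) M n : ℝ) / (n : ℝ) ^ fs.length)
      atTop (𝓝 ((chi fs M : ℤ) : ℝ)) := by
  obtain ⟨P, hPd, hP, hc⟩ := chi_eq fs M hmax
  have ht : Tendsto (fun n : ℕ => (hs (Ideal.ofList fs) M n : ℝ) / (n : ℝ) ^ fs.length) atTop
      (𝓝 ((P.coeff fs.length : ℚ) : ℝ)) :=
    (GrAlg95.tendsto_eval_div P _ hPd).congr' (hP.mono fun n hn => by rw [← hn]; norm_num)
  have hc' : ((chi fs M : ℤ) : ℝ) = (fs.length.factorial : ℝ) * ((P.coeff fs.length : ℚ) : ℝ) := by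
    have := congrArg (fun q : ℚ => (q : ℝ)) hc
    push_cast at this
    rw [this]
    ring
  rw [hc']
  simpa only [mul_div_assoc] using ht.const_mul (fs.length.factorial : ℝ)

section Ann

variable {M : Type u} [AddCommGroup M] [Module A M] (I : Ideal A)

omit [IsNoetherianRing A] in
theorem sup_ann_pow_smul (t : ℕ) :
    (I ⊔ Module.annihilator A M) ^ t • (⊤ : Submodule A M) = I ^ t • ⊤ := by
  have h1 : (I ⊔ Module.annihilator A M) • (⊤ : Submodule A M) = I • ⊤ := by
    rw [Submodule.sup_smul, sup_eq_left]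
    refine Submodule.smul_le.2 fun r hr m _ => ?_
    rw [Module.mem_annihilator.1 hr m]
    exact zero_mem _
  induction t with
  | zero => simp
  | succ t ih =>
    rw [pow_succ', Submodule.mul_smul, ih, ← Submodule.mul_smul, mul_comm, Submodule.mul_smul, h1,
      ← Submodule.mul_smul, ← pow_succ]

omit [IsNoetherianRing A] in
theorem hs_sup_ann : hs (I ⊔ Module.annihilator A M) M = hs I M := by
  funext t
  rw [hs, hs, (Submodule.quotEquivOfEq _ _ (sup_ann_pow_smul I t)).length_eq]

theorem exists_pow_le [IsLocalRing A] [Module.Finite A M] (hmax : MaxSupp I M) :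
    ∃ N, IsLocalRing.maximalIdeal A ^ N ≤ I ⊔ Module.annihilator A M := by
  set J := I ⊔ Module.annihilator A M
  have hrad : IsLocalRing.maximalIdeal A ≤ J.radical := by
    rw [Ideal.radical_eq_sInf]
    refine le_sInf fun p hp => ?_
    haveI := hp.2
    refine (IsLocalRing.eq_maximalIdeal (hmax ⟨p, hp.2⟩ ?_ (le_sup_left.trans hp.1))).ge
    rw [Module.support_eq_zeroLocus]
    exact le_sup_right.trans hp.1
  obtain ⟨N, hN⟩ := Ideal.exists_radical_pow_le_of_fg J (IsNoetherian.noetherian _)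
  exact ⟨N, (Ideal.pow_right_mono hrad N).trans hN⟩

theorem exists_dim_poly [IsLocalRing A] [Module.Finite A M] (hle : I ≤ IsLocalRing.maximalIdeal A)
    (hmax : MaxSupp I M) (d : ℕ) (hd : Module.supportDim A M ≤ d) :
    ∃ L : ℝ, Tendsto (fun n : ℕ => (hs I M n : ℝ) / (n : ℝ) ^ d) atTop (𝓝 L) ∧
      (Module.supportDim A M + 1 ≤ d → L = 0) ∧ (Module.supportDim A M = d → 0 < L) := by
  rcases subsingleton_or_nontrivial M with hM | hM
  · refine ⟨0, ?_, fun _ => rfl, fun h => ?_⟩
    · simp [hs, Module.length_eq_zero]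
    · rw [Module.supportDim_eq_bot_of_subsingleton] at h
      simp at h
  obtain ⟨N, hN⟩ := exists_pow_le I hmax
  have hle' : I ⊔ Module.annihilator A M ≤ IsLocalRing.maximalIdeal A :=
    sup_le hle (IsLocalRing.le_maximalIdeal fun h =>
      absurd (Module.annihilator_eq_top_iff.1 h) (not_subsingleton M))
  obtain ⟨L, hL, -, hpos⟩ := GrAlg95.exists_samuel_limit _ hle' hN M d hd
  refine ⟨L, by simpa [hs_sup_ann] using hL, fun h => ?_, hpos⟩
  exact tendsto_nhds_unique hL (GrAlg95.tendsto_hs_zero _ hle' hN M d h)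

end Ann

variable [IsLocalRing A] (fs : List A) (M : ModuleCat.{u} A) [Module.Finite A M]

theorem ofList_le (hfs : ∀ f ∈ fs, f ∈ IsLocalRing.maximalIdeal A) :
    Ideal.ofList fs ≤ IsLocalRing.maximalIdeal A := Ideal.span_le.2 hfs

theorem chi_eq_zero (hfs : ∀ f ∈ fs, f ∈ IsLocalRing.maximalIdeal A) (hmax : MaxSupp (Ideal.ofList fs) M)
    (hdim : Module.supportDim A M + 1 ≤ fs.length) : chi fs M = 0 := by
  have h0 : Module.supportDim A M ≤ fs.length :=
    le_trans (le_add_of_nonneg_right (by norm_num)) hdim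
  obtain ⟨L, hL, hz, -⟩ := exists_dim_poly _ (ofList_le fs hfs) hmax fs.length h0
  have h := tendsto_nhds_unique (chi_tendsto fs M hmax)
    ((hL.const_mul (fs.length.factorial : ℝ)).congr fun n => (mul_div_assoc _ _ _).symm)
  rw [hz hdim, mul_zero] at h
  exact_mod_cast h

theorem chi_pos (hfs : ∀ f ∈ fs, f ∈ IsLocalRing.maximalIdeal A) (hmax : MaxSupp (Ideal.ofList fs) M)
    (hdim : Module.supportDim A M = fs.length) : 0 < chi fs M := by
  obtain ⟨L, hL, -, hp⟩ := exists_dim_poly _ (ofList_le fs hfs) hmax fs.length hdim.le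
  have h := tendsto_nhds_unique (chi_tendsto fs M hmax)
    ((hL.const_mul (fs.length.factorial : ℝ)).congr fun n => (mul_div_assoc _ _ _).symm)
  have : (0 : ℝ) < (chi fs M : ℤ) := h ▸ mul_pos (by positivity) (hp hdim)
  exact_mod_cast this

theorem chi_add {M' M'' : ModuleCat.{u} A} [Module.Finite A M'] [Module.Finite A M''] {n : ℕ}
    (hI : IsLocalRing.maximalIdeal A ^ n ≤ Ideal.ofList fs) (f : M' →ₗ[A] M) (g : M →ₗ[A] M'')
    (hf : Function.Injective f) (hg : Function.Surjective g) (hfg : LinearMap.range f = LinearMap.ker g) :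
    chi fs M = chi fs M' + chi fs M'' := by
  have hm : ∀ N : ModuleCat.{u} A, MaxSupp (Ideal.ofList fs) N := fun N => GrAlg95.maxSupp_of_pow_le _ hI N
  have h1 := chi_tendsto fs M' (hm M')
  have h2 := chi_tendsto fs M'' (hm M'')
  have := tendsto_nhds_unique (chi_tendsto fs M (hm M)) (CycLib.samuel_add _ hI f g hf hg hfg _ h1 h2)
  exact_mod_cast this

end Groth.Agent.KEuler95
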