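import Groth.Agent.HSLib.Samuel

/-!
# Euler characteristics of complexes with null-homotopic action of an ideal

If the differentials of a bounded complex of finite modules take values in `I` times the target and every element of
`I` acts null-homotopically, then the alternating sum of the lengths of the homology equals that of the lengths of
`K^q / I^(n+q) K^q` for large `n` (Serre's filtration argument).
-/

set_option autoImplicit false
set_option linter.style.haveILetI false

universe u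

open CategoryTheory
open Groth.Agent.HSLib (qlen qlen_add qlen_comap qlen_eq_zero_of_le length_quot_eq_add)

namespace Groth.Agent.KEuler95

variable {A : Type u} [CommRing A]

theorem qlen_sup {M : Type u} [AddCommGroup M] [Module A M] (Z F : Submodule A M) :
    qlen (Z ⊔ F) F = qlen Z (Z ⊓ F) := by
  have h := qlen_comap (1 : A) Z F
  have he : LinearMap.lsmul A M (1 : A) = LinearMap.id := by ext m; simp
  rw [he, Submodule.map_id, Submodule.comap_id, sup_comm] at h
  exact h.symm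

variable (K : CochainComplex (ModuleCat.{u} A) ℤ)

/-- Cycles. -/
noncomputable abbrev Z (q : ℤ) : Submodule A (K.X q) := LinearMap.ker (K.d q (q + 1)).hom

/-- Boundaries. -/
noncomputable abbrev B (q : ℤ) : Submodule A (K.X q) := LinearMap.range (K.d (q - 1) q).hom

theorem B_le_Z (q : ℤ) : B K q ≤ Z K q := by
  rintro _ ⟨w, rfl⟩
  exact ConcreteCategory.congr_hom (K.d_comp_d (q - 1) q (q + 1)) w

theorem length_homology (q : ℤ) : Module.length A (K.homology q) = qlen (Z K q) (B K q) := by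
  let S := K.sc' (q - 1) q (q + 1)
  let e : K.homology q ≅ ModuleCat.of A (LinearMap.ker S.g.hom ⧸ LinearMap.range S.moduleCatToCycles) :=
    K.homologyIsoSc' (q - 1) q (q + 1) (by simp) (by simp) ≪≫ S.moduleCatHomologyIso
  rw [e.toLinearEquiv.length_eq]
  refine (Submodule.quotEquivOfEq _ _ ?_).length_eq
  ext z
  refine ⟨?_, ?_⟩
  · rintro ⟨w, rfl⟩
    exact ⟨w, rfl⟩
  · rintro ⟨w, hw⟩
    exact ⟨w, Subtype.ext hw⟩

/-- The filtration `I^(n+q) K^q`. -/
noncomputable abbrev F (I : Ideal A) (n : ℕ) (q : ℤ) : Submodule A (K.X q) :=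
  I ^ ((n : ℤ) + q).toNat • ⊤

variable [IsNoetherianRing A]

/-- The filtration complex is exact for large `n`. -/
theorem exists_exact (I : Ideal A) [∀ q, Module.Finite A (K.X q)]
    (hH : ∀ a ∈ I, ∀ q : ℤ, ∃ H : K.X q →ₗ[A] K.X (q - 1),
      ∀ z, (K.d q (q + 1)).hom z = 0 → (K.d (q - 1) q).hom (H z) = a • z)
    (d : ℕ) (hbd : ∀ q : ℤ, q < -(d : ℤ) ∨ 0 < q → Subsingleton (K.X q)) :
    ∃ N : ℕ, d + 1 ≤ N ∧ ∀ n : ℕ, N ≤ n → ∀ q, Z K q ⊓ F K I n q ≤ (F K I n (q - 1)).map (K.d (q - 1) q).hom := by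
  choose k hk using fun q : ℤ => Ideal.exists_pow_inf_eq_pow_smul I (Z K q)
  refine ⟨(∑ q ∈ Finset.Icc (-(d : ℤ)) 0, k q) + d + 1, by omega, fun n hn q => ?_⟩
  by_cases hq : q < -(d : ℤ) ∨ 0 < q
  · haveI := hbd q hq
    intro z _
    rw [Subsingleton.elim z 0]
    exact zero_mem _
  push Not at hq
  have hkq : k q ≤ ∑ q ∈ Finset.Icc (-(d : ℤ)) 0, k q :=
    Finset.single_le_sum (fun _ _ => Nat.zero_le _) (Finset.mem_Icc.2 hq)
  set t := ((n : ℤ) + (q - 1)).toNat with ht
  have ht1 : ((n : ℤ) + q).toNat = t + 1 := by omega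
  have hkt : k q ≤ t := by omega
  rintro z ⟨hzZ, hzF⟩
  have h1 : z ∈ I • (I ^ t • (⊤ : Submodule A (K.X q)) ⊓ Z K q) := by
    rw [hk q t hkt, ← Submodule.mul_smul, ← pow_succ', show t - k q + 1 = t + 1 - k q by omega,
      ← hk q (t + 1) (by omega)]
    exact ⟨ht1 ▸ hzF, hzZ⟩
  clear hzZ hzF
  induction h1 using Submodule.smul_induction_on' with
  | smul a ha w hw =>
    obtain ⟨H, hHq⟩ := hH a ha q
    refine ⟨H w, ?_, hHq w hw.2⟩
    refine Submodule.smul_mono le_rfl (le_top : (⊤ : Submodule A (K.X q)).map H ≤ ⊤) ?_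
    rw [← Submodule.map_smul'']
    exact ⟨w, hw.1, rfl⟩
  | add x _ y _ hx hy => exact add_mem hx hy

/-- The defect term. -/
noncomputable abbrev defect (I : Ideal A) (n : ℕ) (q : ℤ) : ℕ∞ := Module.length A (K.X q ⧸ (Z K q ⊔ F K I n q))

omit [IsNoetherianRing A] in
theorem length_split (I : Ideal A) (hd : ∀ q, B K q ≤ I • (⊤ : Submodule A (K.X q)))
    (n : ℕ) (q : ℤ) (hnq : 1 ≤ (n : ℤ) + q)
    (hex : Z K q ⊓ F K I n q ≤ (F K I n (q - 1)).map (K.d (q - 1) q).hom) :
    Module.length A (K.X q ⧸ F K I n q) = Module.length A (K.homology q) + defect K I n q + defect K I n (q - 1) := by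
  have hFmap : (F K I n (q - 1)).map (K.d (q - 1) q).hom ≤ F K I n q := by
    rw [Submodule.map_smul'']
    show _ ≤ I ^ ((n : ℤ) + q).toNat • _
    rw [show ((n : ℤ) + q).toNat = ((n : ℤ) + (q - 1)).toNat + 1 by omega]
    rw [pow_succ, Submodule.mul_smul, Submodule.map_top]
    exact Submodule.smul_mono le_rfl (hd q)
  have hinfB : Z K q ⊓ F K I n q ≤ B K q := hex.trans (LinearMap.map_le_range)
  rw [length_quot_eq_add (N₁ := Z K q ⊔ F K I n q) le_sup_right, qlen_sup,
    qlen_add hinfB (B_le_Z K q), ← length_homology]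
  set Z' : Submodule A (K.X (q - 1)) := Z K (q - 1)
  have hZ' : ∀ w, w ∈ Z' ↔ (K.d (q - 1) q).hom w = 0 := by
    intro w
    show (K.d (q - 1) (q - 1 + 1)).hom w = 0 ↔ _
    rw [show q - 1 + 1 = q by ring]
  let ψ : K.X (q - 1) →ₗ[A] ↥(B K q) ⧸ (Z K q ⊓ F K I n q).comap (B K q).subtype :=
    (Submodule.mkQ _).comp (K.d (q - 1) q).hom.rangeRestrict
  have hψ : Function.Surjective ψ :=
    (Submodule.mkQ_surjective _).comp (LinearMap.surjective_rangeRestrict _)
  have hker : LinearMap.ker ψ = Z' ⊔ F K I n (q - 1) := by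
    refine le_antisymm (fun w hw => ?_) (sup_le (fun w hw => ?_) (fun w hw => ?_))
    · have hw' : (K.d (q - 1) q).hom w ∈ Z K q ⊓ F K I n q := by
        have h := LinearMap.mem_ker.1 hw
        simp only [ψ, LinearMap.comp_apply, Submodule.mkQ_apply, Submodule.Quotient.mk_eq_zero] at h
        exact h
      obtain ⟨f, hf, hfw⟩ := hex hw'
      rw [show w = (w - f) + f by abel]
      exact Submodule.add_mem_sup ((hZ' _).2 (by rw [map_sub, hfw, sub_self])) hf
    · refine (Submodule.Quotient.mk_eq_zero _).2 ?_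
      show (K.d (q - 1) q).hom w ∈ Z K q ⊓ F K I n q
      rw [(hZ' w).1 hw]
      exact zero_mem _
    · refine (Submodule.Quotient.mk_eq_zero _).2 ?_
      exact ⟨B_le_Z K q ⟨w, rfl⟩, hFmap ⟨w, hw, rfl⟩⟩
  have e : qlen (B K q) (Z K q ⊓ F K I n q) = defect K I n (q - 1) :=
    (((Submodule.quotEquivOfEq _ _ hker).symm.trans (ψ.quotKerEquivOfSurjective hψ)).symm).length_eq
  rw [e]
  simp only [defect]
  abel

omit [IsNoetherianRing A] in
theorem sum_telescope (a : ℤ → ℤ) (h0 : a 0 = 0) :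
    ∀ m : ℕ, ∑ j ∈ Finset.range m, (-1 : ℤ) ^ j * (a (-(j : ℤ)) + a (-(j : ℤ) - 1)) =
      -((-1 : ℤ) ^ m * a (-(m : ℤ))) := by
  intro m
  induction m with
  | zero => simp [h0]
  | succ m ih =>
    rw [Finset.sum_range_succ, ih, show (-((m + 1 : ℕ) : ℤ)) = -(m : ℤ) - 1 by push_cast; ring, pow_succ]
    ring

/-- The homology has finite length and its Euler characteristic is computed by the filtration. -/
theorem euler_eq (I : Ideal A) [∀ q, Module.Finite A (K.X q)]
    (hH : ∀ a ∈ I, ∀ q : ℤ, ∃ H : K.X q →ₗ[A] K.X (q - 1),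
      ∀ z, (K.d q (q + 1)).hom z = 0 → (K.d (q - 1) q).hom (H z) = a • z)
    (hd : ∀ q, B K q ≤ I • (⊤ : Submodule A (K.X q)))
    (d : ℕ) (hbd : ∀ q : ℤ, q < -(d : ℤ) ∨ 0 < q → Subsingleton (K.X q))
    (hfin : ∀ q (t : ℕ), Module.length A (K.X q ⧸ I ^ t • (⊤ : Submodule A (K.X q))) ≠ ⊤) :
    (∀ q, Module.length A (K.homology q) ≠ ⊤) ∧ ∃ N : ℕ, ∀ n : ℕ, N ≤ n →
      ∑ j ∈ Finset.range (d + 1), (-1 : ℤ) ^ j * ((Module.length A (K.homology (-(j : ℤ)))).toNat : ℤ) =
        ∑ j ∈ Finset.range (d + 1), (-1 : ℤ) ^ j *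
          ((Module.length A (K.X (-(j : ℤ)) ⧸ I ^ (n - j) • (⊤ : Submodule A (K.X (-(j : ℤ)))))).toNat : ℤ) := by
  obtain ⟨N, hNd, hN⟩ := exists_exact K I hH d hbd
  refine ⟨fun q => ?_, N, fun n hn => ?_⟩
  · by_cases hq : q < -(d : ℤ) ∨ 0 < q
    · haveI := hbd q hq
      rw [length_homology, qlen_eq_zero_of_le (fun z _ => by rw [Subsingleton.elim z 0]; exact zero_mem _)]
      exact ENat.zero_ne_top
    · push Not at hq
      intro h
      have := length_split K I hd N q (by omega) (hN N le_rfl q)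
      rw [h, top_add, top_add] at this
      exact hfin q _ this
  · have hsplit : ∀ j ∈ Finset.range (d + 1), ((Module.length A (K.X (-(j : ℤ)) ⧸ I ^ (n - j) •
        (⊤ : Submodule A (K.X (-(j : ℤ)))))).toNat : ℤ) =
        ((Module.length A (K.homology (-(j : ℤ)))).toNat : ℤ) +
          (((defect K I n (-(j : ℤ))).toNat : ℤ) + ((defect K I n (-(j : ℤ) - 1)).toNat : ℤ)) := by
      intro j hj
      rw [Finset.mem_range] at hj
      have h := length_split K I hd n (-(j : ℤ)) (by omega) (hN n hn _)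
      have hF : F K I n (-(j : ℤ)) = I ^ (n - j) • ⊤ := by
        show I ^ _ • _ = _
        rw [show ((n : ℤ) + -(j : ℤ)).toNat = n - j by omega]
      have hne : Module.length A (K.X (-(j : ℤ)) ⧸ F K I n (-(j : ℤ))) ≠ ⊤ := hfin _ _
      rw [h] at hne
      obtain ⟨h12, h3⟩ := WithTop.add_ne_top.1 hne
      obtain ⟨h1, h2⟩ := WithTop.add_ne_top.1 h12
      rw [← hF, h, ENat.toNat_add h12 h3, ENat.toNat_add h1 h2]
      push_cast
      ring
    rw [Finset.sum_congr rfl fun j hj => congrArg (fun x => (-1 : ℤ) ^ j * x) (hsplit j hj)]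
    simp only [mul_add ((-1 : ℤ) ^ _) _ (_ + _), Finset.sum_add_distrib]
    have h0 : ((defect K I n 0).toNat : ℤ) = 0 := by
      have hZ : Z K 0 = ⊤ := eq_top_iff.2 fun z _ => by
        haveI := hbd (0 + 1) (Or.inr (by norm_num))
        exact Subsingleton.elim _ _
      haveI : Subsingleton (K.X 0 ⧸ (Z K 0 ⊔ F K I n 0)) := by
        rw [Submodule.Quotient.subsingleton_iff, hZ, top_sup_eq]
      rw [defect, Module.length_eq_zero]
      rfl
    rw [sum_telescope (fun q => ((defect K I n q).toNat : ℤ)) h0]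
    haveI := hbd (-((d + 1 : ℕ) : ℤ)) (Or.inl (by push_cast; omega))
    have hlast : defect K I n (-((d + 1 : ℕ) : ℤ)) = 0 := Module.length_eq_zero
    simp only [hlast]
    simp

end Groth.Agent.KEuler95
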