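import Groth.Agent.Koszul15.Basic
import Groth.Agent.KEuler95.Filt

/-!
# The Euler characteristic of the Koszul complex and the Hilbert–Samuel polynomial

For a list `fs` of length `d` with `M ⧸ (fs) M` of finite length, the alternating sum of the lengths of the Koszul
homology is `d!` times the coefficient of `n ^ d` of the Hilbert–Samuel polynomial of `(fs)` on `M`.
-/

set_option autoImplicit false
set_option linter.style.haveILetI false

universe u

open CategoryTheory CategoryTheory.Limits CochainComplex CochainComplex.HomComplex Polynomial Filter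
open Groth.Agent.HSLib (hs EvPoly MaxSupp)

namespace Groth.Agent.KEuler95

variable {A : Type u} [CommRing A]

local notation "K(" fs ", " M ")" => CohIII.koszulCx M fs

/-- The Euler characteristic of the Koszul homology of `fs` on `M`. -/
noncomputable def chi (fs : List A) (M : ModuleCat.{u} A) : ℤ :=
  ∑ j ∈ Finset.range (fs.length + 1), (-1 : ℤ) ^ j * ((Module.length A (K(fs, M).homology (-(j : ℤ)))).toNat : ℤ)

/-- The components of a cone. -/
noncomputable def coneEquiv {K : CochainComplex (ModuleCat.{u} A) ℤ} (φ : K ⟶ K) (n m : ℤ) (h : n + 1 = m) :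
    (mappingCone φ).X n ≃ₗ[A] K.X m × K.X n :=
  LinearEquiv.ofLinearMap
    (((mappingCone.fst φ).1.v n m h).hom.prod ((mappingCone.snd φ).v n n (add_zero n)).hom)
    (((mappingCone.inl φ).v m n (by omega)).hom.coprod ((mappingCone.inr φ).f n).hom)
    (by
      refine LinearMap.prod_ext ?_ ?_
      · ext x
        · have e := ConcreteCategory.congr_hom (mappingCone.inl_v_fst_v φ m n h) x
          simp only [LinearMap.comp_apply, LinearMap.coprod_inl, LinearMap.coprod_inr, LinearMap.prod_apply, Pi.prod,
            LinearMap.coprod_apply, LinearMap.inl_apply, LinearMap.inr_apply, map_zero, add_zero, zero_add, LinearMap.id_apply]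
          exact e
        · simpa using ConcreteCategory.congr_hom (mappingCone.inl_v_snd_v φ m n (by omega)) x
      · ext x
        · have e := ConcreteCategory.congr_hom (mappingCone.inr_f_fst_v φ n m h) x
          simp only [LinearMap.comp_apply, LinearMap.coprod_inl, LinearMap.coprod_inr, LinearMap.prod_apply, Pi.prod,
            LinearMap.coprod_apply, LinearMap.inl_apply, LinearMap.inr_apply, map_zero, add_zero, zero_add, LinearMap.id_apply]
          exact e
        · have e := ConcreteCategory.congr_hom (mappingCone.inr_f_snd_v φ n) x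
          simp only [LinearMap.comp_apply, LinearMap.coprod_inl, LinearMap.coprod_inr, LinearMap.prod_apply, Pi.prod,
            LinearMap.coprod_apply, LinearMap.inl_apply, LinearMap.inr_apply, map_zero, add_zero, zero_add, LinearMap.id_apply]
          exact e)
    (by
      ext z
      simpa using ConcreteCategory.congr_hom (mappingCone.id_X φ n m h) z)

theorem finite_X (M : ModuleCat.{u} A) [Module.Finite A M] :
    ∀ (fs : List A) (n : ℤ), Module.Finite A (K(fs, M).X n) := by
  intro fs
  induction fs with
  | nil =>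
    intro n
    by_cases hn : n = 0
    · subst hn
      exact Module.Finite.equiv (HomologicalComplex.singleObjXSelf (ComplexShape.up ℤ) 0 M).toLinearEquiv.symm
    · haveI : Subsingleton (K(([] : List A), M).X n) :=
        ModuleCat.subsingleton_of_isZero (HomologicalComplex.isZero_single_obj_X _ _ _ _ hn)
      infer_instance
  | cons f fs ih =>
    intro n
    haveI := ih n
    haveI := ih (n + 1)
    exact Module.Finite.equiv (coneEquiv (f • 𝟙 K(fs, M)) n (n + 1) rfl).symm

theorem subsingleton_X (M : ModuleCat.{u} A) (fs : List A) (n : ℤ) (h : n < -(fs.length : ℤ) ∨ 0 < n) :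
    Subsingleton (K(fs, M).X n) :=
  ModuleCat.subsingleton_of_isZero (Koszul15.isZero_X M fs n h.symm)

/-- The boundaries lie in `I` times the Koszul complex. -/
theorem range_d_le (M : ModuleCat.{u} A) (I : Ideal A) :
    ∀ (fs : List A), (∀ f ∈ fs, f ∈ I) → ∀ (n m : ℤ) (w : K(fs, M).X n),
      (K(fs, M).d n m).hom w ∈ I • (⊤ : Submodule A (K(fs, M).X m)) := by
  intro fs
  induction fs with
  | nil =>
    intro _ n m w
    have h : K(([] : List A), M).d n m = 0 := HomologicalComplex.single_obj_d _ _ _ _ _
    rw [h]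
    exact zero_mem _
  | cons f fs ih =>
    intro hf n m w
    by_cases hnm : n + 1 = m
    swap
    · rw [K(f :: fs, M).shape n m (by simpa using hnm)]
      exact zero_mem _
    have hmap : ∀ {P Q : ModuleCat.{u} A} (g : P ⟶ Q) {x : P},
        x ∈ I • (⊤ : Submodule A P) → g.hom x ∈ I • (⊤ : Submodule A Q) := fun g x hx => by
      have := Submodule.mem_map_of_mem (f := g.hom) hx
      rw [Submodule.map_smul''] at this
      exact Submodule.smul_mono le_rfl le_top this
    set φ := f • 𝟙 K(fs, M) with hφ
    set v := (mappingCone φ).d n m w with hv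
    have hid : v = ((mappingCone.inl φ).v (m + 1) m (by omega)).hom ((mappingCone.fst φ).1.v m (m + 1) rfl v) +
        ((mappingCone.inr φ).f m).hom ((mappingCone.snd φ).v m m (add_zero m) v) :=
      (ConcreteCategory.congr_hom (mappingCone.id_X φ m (m + 1) rfl) v).symm
    show v ∈ I • (⊤ : Submodule A ((mappingCone φ).X m))
    rw [hid]
    refine add_mem (hmap _ ?_) (hmap _ ?_)
    · have := ConcreteCategory.congr_hom (mappingCone.d_fst_v φ n m (m + 1) hnm rfl) w
      rw [show (mappingCone.fst φ).1.v m (m + 1) rfl v = _ from this]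
      exact neg_mem (ih (fun g hg => hf g (List.mem_cons_of_mem _ hg)) _ _ _)
    · have := ConcreteCategory.congr_hom (mappingCone.d_snd_v φ n m hnm) w
      rw [show (mappingCone.snd φ).v m m (add_zero m) v = _ from this]
      refine add_mem ?_ (ih (fun g hg => hf g (List.mem_cons_of_mem _ hg)) _ _ _)
      exact Submodule.smul_mem_smul (hf f List.mem_cons_self) trivial

/-- Null-homotopies on cycles. -/
theorem exists_contract (M : ModuleCat.{u} A) (fs : List A) (a : A) (ha : a ∈ Ideal.ofList fs) (q : ℤ) :
    ∃ H : K(fs, M).X q →ₗ[A] K(fs, M).X (q - 1),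
      ∀ z, (K(fs, M).d q (q + 1)).hom z = 0 → (K(fs, M).d (q - 1) q).hom (H z) = a • z := by
  obtain ⟨h⟩ := Koszul15.homotopy_of_mem M fs a ha
  refine ⟨(h.hom q (q - 1)).hom, fun z hz => ?_⟩
  have hc := h.comm q
  rw [dNext_eq _ (show (ComplexShape.up ℤ).Rel q (q + 1) by simp),
    prevD_eq _ (show (ComplexShape.up ℤ).Rel (q - 1) q by simp)] at hc
  have hz' := ConcreteCategory.congr_hom hc z
  simp only [HomologicalComplex.smul_f_apply, HomologicalComplex.id_f, HomologicalComplex.zero_f, add_zero] at hz'
  simpa [hz] using hz'.symm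

theorem length_prod_quot {P Q : Type u} [AddCommGroup P] [Module A P] [AddCommGroup Q] [Module A Q] (J : Ideal A) :
    Module.length A ((P × Q) ⧸ (J • (⊤ : Submodule A (P × Q)))) =
      Module.length A (P ⧸ (J • (⊤ : Submodule A P))) + Module.length A (Q ⧸ (J • (⊤ : Submodule A Q))) := by
  have h : J • (⊤ : Submodule A (P × Q)) =
      LinearMap.ker ((J • (⊤ : Submodule A P)).mkQ.prodMap (J • (⊤ : Submodule A Q)).mkQ) := by
    rw [LinearMap.ker_prodMap, Submodule.ker_mkQ, Submodule.ker_mkQ]
    refine le_antisymm ?_ ?_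
    · intro x hx
      refine Submodule.mem_prod.2 ⟨?_, ?_⟩
      · have := Submodule.mem_map_of_mem (f := LinearMap.fst A P Q) hx
        rw [Submodule.map_smul''] at this
        exact Submodule.smul_mono le_rfl le_top this
      · have := Submodule.mem_map_of_mem (f := LinearMap.snd A P Q) hx
        rw [Submodule.map_smul''] at this
        exact Submodule.smul_mono le_rfl le_top this
    · rintro ⟨a, b⟩ ⟨ha, hb⟩
      have ha' := Submodule.mem_map_of_mem (f := LinearMap.inl A P Q) ha
      have hb' := Submodule.mem_map_of_mem (f := LinearMap.inr A P Q) hb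
      rw [Submodule.map_smul''] at ha' hb'
      have := add_mem (Submodule.smul_mono le_rfl le_top ha') (Submodule.smul_mono le_rfl le_top hb')
      simpa using this
  have e := (Submodule.quotEquivOfEq _ _ h).trans (LinearMap.quotKerEquivOfSurjective _
    (Prod.map_surjective.2 ⟨Submodule.mkQ_surjective _, Submodule.mkQ_surjective _⟩))
  rw [e.length_eq, Module.length_prod]

theorem length_quot_congr {P Q : Type u} [AddCommGroup P] [Module A P] [AddCommGroup Q] [Module A Q]
    (e : P ≃ₗ[A] Q) (J : Ideal A) :
    Module.length A (P ⧸ (J • (⊤ : Submodule A P))) = Module.length A (Q ⧸ (J • (⊤ : Submodule A Q))) :=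
  (Submodule.Quotient.equiv _ _ e (by
    rw [Submodule.map_smul'', Submodule.map_top]
    exact congrArg (J • ·) (LinearMap.range_eq_top.2 e.surjective))).length_eq

/-- The length of the truncations of the Koszul complex. -/
theorem length_X_quot (M : ModuleCat.{u} A) (J : Ideal A) :
    ∀ (fs : List A) (j : ℕ), Module.length A (K(fs, M).X (-(j : ℤ)) ⧸ (J • (⊤ : Submodule A (K(fs, M).X (-(j : ℤ)))))) =
      (fs.length.choose j : ℕ∞) * Module.length A (M ⧸ (J • (⊤ : Submodule A M))) := by
  intro fs
  induction fs with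
  | nil =>
    intro j
    cases j with
    | zero =>
      rw [length_quot_congr (show K(([] : List A), M).X (-((0 : ℕ) : ℤ)) ≃ₗ[A] M from
        (HomologicalComplex.singleObjXSelf (ComplexShape.up ℤ) 0 M).toLinearEquiv)]
      simp
    | succ j =>
      haveI := subsingleton_X M ([] : List A) (-((j + 1 : ℕ) : ℤ)) (Or.inl (by simp; omega))
      rw [Module.length_eq_zero, Nat.choose_eq_zero_of_lt (by simp), Nat.cast_zero, zero_mul]
  | cons f fs ih =>
    intro j
    cases j with
    | zero =>
      refine (length_quot_congr (coneEquiv (f • 𝟙 K(fs, M)) (-((0 : ℕ) : ℤ)) 1 (by simp)) J).trans ?_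
      rw [length_prod_quot, ih]
      haveI := subsingleton_X M fs 1 (Or.inr one_pos)
      simp [Module.length_eq_zero]
    | succ j =>
      refine (length_quot_congr (coneEquiv (f • 𝟙 K(fs, M)) (-((j + 1 : ℕ) : ℤ)) (-(j : ℤ))
        (by push_cast; omega)) J).trans ?_
      rw [length_prod_quot, ih, ih, List.length_cons, Nat.choose_succ_succ', Nat.cast_add, add_mul]

/-- The support of a module of finite length consists of maximal ideals. -/
theorem isMaximal_of_finiteLength {N : Type u} [AddCommGroup N] [Module A N] [Module.Finite A N]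
    (h : IsFiniteLength A N) {p : PrimeSpectrum A} (hp : p ∈ Module.support A N) : p.asIdeal.IsMaximal := by
  haveI : IsArtinian A N := (isFiniteLength_iff_isNoetherian_isArtinian.mp h).2
  obtain ⟨n, s, hs⟩ := Module.Finite.exists_fin (R := A) (M := N)
  let φ : A →ₗ[A] (Fin n → N) := LinearMap.pi fun i => LinearMap.toSpanSingleton A N (s i)
  have hker : LinearMap.ker φ ≤ Module.annihilator A N := by
    intro a ha
    rw [← Submodule.annihilator_top, ← hs, Submodule.annihilator_span, Submodule.mem_iInf]
    rintro ⟨_, i, rfl⟩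
    exact congrFun ha i
  have hle : (LinearMap.ker φ) ≤ p.asIdeal := hker.trans (Module.annihilator_le_of_mem_support hp)
  haveI : IsArtinian A (A ⧸ LinearMap.ker φ) := isArtinian_of_linearEquiv (LinearMap.quotKerEquivRange φ).symm
  haveI : IsArtinian A (A ⧸ p.asIdeal) :=
    isArtinian_of_surjective _ (Submodule.factor hle) (Submodule.factor_surjective hle)
  haveI : IsArtinianRing (A ⧸ p.asIdeal) := isArtinian_of_tower A this
  exact Ideal.Quotient.maximal_of_isField _ (IsArtinianRing.isField_of_isDomain _)

variable [IsNoetherianRing A]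

omit [IsNoetherianRing A] in
theorem maxSupp_of_isFiniteLength (I : Ideal A) (M : Type u) [AddCommGroup M] [Module A M] [Module.Finite A M]
    (h : IsFiniteLength A (M ⧸ (I • (⊤ : Submodule A M)))) : MaxSupp I M := fun p hp hle =>
  isMaximal_of_finiteLength h (by rw [Module.support_quotient]; exact ⟨hp, hle⟩)

omit [IsNoetherianRing A] in
theorem alt_sum_eval (P : ℚ[X]) (d : ℕ) (hP : P.natDegree ≤ d) (y : ℚ) :
    ∑ j ∈ Finset.range (d + 1), (-1 : ℚ) ^ j * (d.choose j : ℚ) * P.eval (y - j) = P.coeff d * d.factorial := by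
  have h := fwdDiff_iter_eq_sum_shift (1 : ℚ) P.eval d (y - d)
  have hl : (fwdDiff (1 : ℚ))^[d] P.eval (y - d) = P.coeff d * d.factorial := by
    rcases hP.lt_or_eq with hlt | rfl
    · rw [Polynomial.fwdDiff_iter_eq_zero_of_degree_lt hlt, coeff_eq_zero_of_natDegree_lt hlt]
      simp
    · rw [Polynomial.fwdDiff_iter_degree_eq_factorial]
      simp only [Pi.smul_apply, Pi.natCast_apply, smul_eq_mul]
      rfl
  rw [← hl, h, ← Finset.sum_range_reflect (fun k => ((-1 : ℤ) ^ (d - k) * d.choose k) • P.eval (y - d + k • (1 : ℚ)))]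
  refine Finset.sum_congr rfl fun j hj => ?_
  rw [Finset.mem_range, Nat.lt_succ_iff] at hj
  rw [show d + 1 - 1 - j = d - j by omega, show d - (d - j) = j by omega, Nat.choose_symm hj, zsmul_eq_mul,
    nsmul_eq_mul, Nat.cast_sub hj]
  push_cast
  congr 2
  ring

theorem homology_ne_top (fs : List A) (M : ModuleCat.{u} A) [Module.Finite A M]
    (hmax : MaxSupp (Ideal.ofList fs) M) (q : ℤ) : Module.length A (K(fs, M).homology q) ≠ ⊤ := by
  haveI := finite_X M fs
  refine (euler_eq K(fs, M) (Ideal.ofList fs) (fun a ha q => exists_contract M fs a ha q)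
    (fun q => ?_) fs.length (fun n hn => subsingleton_X M fs n hn) (fun n t => ?_)).1 q
  · rintro _ ⟨w, rfl⟩
    exact range_d_le M _ fs (fun f hf => Ideal.subset_span hf) _ _ w
  · by_cases hn : n < -(fs.length : ℤ) ∨ 0 < n
    · haveI := subsingleton_X M fs n hn
      simp [Module.length_eq_zero]
    · push Not at hn
      obtain ⟨j, rfl⟩ : ∃ j : ℕ, n = -(j : ℤ) := ⟨(-n).toNat, by omega⟩
      rw [length_X_quot]
      exact WithTop.mul_ne_top (ENat.natCast_ne_top _) (HSLib.length_quot_ne_top hmax le_rfl)

/-- The Euler characteristic is read off the Hilbert–Samuel polynomial. -/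
theorem chi_eq (fs : List A) (M : ModuleCat.{u} A) [Module.Finite A M] (hmax : MaxSupp (Ideal.ofList fs) M) :
    ∃ P : ℚ[X], P.natDegree ≤ fs.length ∧ EvPoly (hs (Ideal.ofList fs) M) P ∧
      (chi fs M : ℚ) = P.coeff fs.length * fs.length.factorial := by
  haveI := finite_X M fs
  have hI : Ideal.span (Set.range (fun i : Fin fs.length => fs.get i)) = Ideal.ofList fs := by
    congr 1
    exact Set.range_list_get fs
  obtain ⟨P, hPd, hP⟩ := HSLib.exists_poly (fun i : Fin fs.length => fs.get i) (M := M) (by rwa [hI])
  rw [hI] at hP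
  refine ⟨P, hPd, hP, ?_⟩
  set I := Ideal.ofList fs with hIdef
  set d := fs.length with hd
  have hfin : ∀ q (t : ℕ), Module.length A (K(fs, M).X q ⧸ I ^ t • (⊤ : Submodule A (K(fs, M).X q))) ≠ ⊤ := by
    intro n t
    by_cases hn : n < -(fs.length : ℤ) ∨ 0 < n
    · haveI := subsingleton_X M fs n hn
      simp [Module.length_eq_zero]
    · push Not at hn
      obtain ⟨j, rfl⟩ : ∃ j : ℕ, n = -(j : ℤ) := ⟨(-n).toNat, by omega⟩
      rw [length_X_quot]
      exact WithTop.mul_ne_top (ENat.natCast_ne_top _) (HSLib.length_quot_ne_top hmax le_rfl)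
  obtain ⟨-, N, hN⟩ := euler_eq K(fs, M) I (fun a ha q => exists_contract M fs a ha q)
    (fun q => by
      rintro _ ⟨w, rfl⟩
      exact range_d_le M _ fs (fun f hf => Ideal.subset_span hf) _ _ w)
    d (fun n hn => subsingleton_X M fs n hn) hfin
  obtain ⟨N', hN'⟩ := eventually_atTop.1 hP
  have key := hN (N + N' + d) (by omega)
  rw [chi, key, ← alt_sum_eval P d hPd ((N + N' + d : ℕ) : ℚ)]
  push_cast
  refine Finset.sum_congr rfl fun j hj => ?_
  rw [Finset.mem_range, Nat.lt_succ_iff] at hj
  have e := hN' (N + N' + d - j) (by omega)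
  rw [Nat.cast_sub (by omega)] at e
  push_cast at e
  rw [length_X_quot, ENat.toNat_mul, ENat.toNat_natCast]
  push_cast
  rw [← e, ← hd]
  simp only [hs]
  ring

end Groth.Agent.KEuler95
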