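import Groth.Agent.KEuler95.Kos
import Groth.Prelude.Def_DRing2
import Groth.Prelude.Def_Koszul

/-! `K(f) ⊗ M` is the Koszul complex on `M`, and the Euler characteristic as a `finsum`. -/

set_option autoImplicit false
set_option linter.style.haveILetI false

universe u

open CategoryTheory CategoryTheory.Limits CategoryTheory.MonoidalCategory CochainComplex

namespace Groth.Agent.KEuler95

variable {A : Type u} [CommRing A]

local notation "K(" fs ", " M ")" => CohIII.koszulCx M fs

noncomputable def coneIso {K L : CochainComplex (ModuleCat.{u} A) ℤ} (e : K ≅ L) (φ : K ⟶ K) (ψ : L ⟶ L)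
    (h : φ ≫ e.hom = e.hom ≫ ψ) : mappingCone φ ≅ mappingCone ψ where
  hom := mappingCone.map φ ψ e.hom e.hom h
  inv := mappingCone.map ψ φ e.inv e.inv
    (by rw [← cancel_epi e.hom, ← Category.assoc, ← h, Category.assoc, e.hom_inv_id, Category.comp_id,
      e.hom_inv_id_assoc])
  hom_inv_id := by
    rw [← mappingCone.map_comp, ← mappingCone.map_id φ]
    simp only [e.hom_inv_id]
  inv_hom_id := by
    rw [← mappingCone.map_comp, ← mappingCone.map_id ψ]
    simp only [e.inv_hom_id]

variable (M : ModuleCat.{u} A)

noncomputable def tensorKoszulIso : ∀ fs : List A, DRing.tensorCx (Koszul.koszul A fs) M ≅ K(fs, M)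
  | [] => (HomologicalComplex.singleMapHomologicalComplex (tensorRight M) (ComplexShape.up ℤ) 0).app
      (ModuleCat.of A A) ≪≫ (HomologicalComplex.single _ _ 0).mapIso (λ_ M)
  | f :: fs =>
    mappingCone.mapHomologicalComplexIso (f • 𝟙 (Koszul.koszul A fs)) (tensorRight M) ≪≫
      coneIso (tensorKoszulIso fs) _ _ (by
        ext n : 1
        simp [Functor.map_smul, Linear.smul_comp, Linear.comp_smul, DRing.tensorCx])

/-- The Euler characteristic as it appears in the statements. -/
theorem finsum_eq_chi (fs : List A) :
    (∑ᶠ i : ℤ, ((i.negOnePow : ℤˣ) : ℤ) *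
      ((Module.length A ((DRing.tensorCx (Koszul.koszul A fs) M).homology i)).toNat : ℤ)) = chi fs M := by
  have he : ∀ i : ℤ, Module.length A ((DRing.tensorCx (Koszul.koszul A fs) M).homology i) =
      Module.length A (K(fs, M).homology i) :=
    fun i => (HomologicalComplex.homologyMapIso (tensorKoszulIso M fs) i).toLinearEquiv.length_eq
  simp only [he]
  rw [chi, finsum_eq_sum_of_support_subset (s := (Finset.range (fs.length + 1)).image (fun j : ℕ => -(j : ℤ))),
    Finset.sum_image (fun a _ b _ h => by simpa using h)]
  · refine Finset.sum_congr rfl fun j _ => ?_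
    rw [Int.negOnePow_neg, Int.coe_negOnePow_natCast]
  · intro i hi
    simp only [Function.mem_support] at hi
    simp only [Finset.coe_image, Set.mem_image, Finset.coe_range, Set.mem_Iio]
    by_contra hne
    push Not at hne
    apply hi
    have hz : IsZero (K(fs, M).homology i) := by
      refine ShortComplex.isZero_homology_of_isZero_X₂ _ (Koszul15.isZero_X M fs i ?_)
      by_contra hh
      push Not at hh
      exact hne (-i).toNat (by omega) (by omega)
    haveI := ModuleCat.subsingleton_of_isZero hz
    simp [Module.length_eq_zero]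

/-- The Euler characteristic in `ℝ`. -/
theorem finsum_real_eq_chi (fs : List A) :
    (∑ᶠ i : ℤ, (((i.negOnePow : ℤˣ) : ℤ) : ℝ) *
      (((Module.length A ((DRing.tensorCx (Koszul.koszul A fs) M).homology i)).toNat : ℤ) : ℝ)) =
      ((chi fs M : ℤ) : ℝ) := by
  rw [← finsum_eq_chi M fs]
  refine Eq.trans ?_ ((Int.castAddHom ℝ).map_finsum_of_injective Int.cast_injective _).symm
  simp

theorem range_ofFn {d : ℕ} (x : Fin d → A) : Ideal.ofList (List.ofFn x) = Ideal.span (Set.range x) := by
  rw [Ideal.ofList]
  congr 1
  ext a
  simp [List.mem_ofFn]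

end Groth.Agent.KEuler95
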